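import Groth.Agent.FrobNilp.Semilinear
import Groth.Agent.CharPTop.Card
import Groth.Agent.EtTorLib.TorsorKillApps
import Groth.Prelude.Def_W4c5isocrystsimpconnFrobH
import Groth.Prelude.Def_Pi1

/-!
# Frobenius is nilpotent on the first cohomology of a simply connected proper scheme
-/

set_option autoImplicit false
set_option maxHeartbeats 1000000
set_option synthInstance.maxHeartbeats 400000
set_option linter.style.haveILetI false
set_option backward.isDefEq.respectTransparency false
set_option backward.isDefEq.respectTransparency.types false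

universe u

open CategoryTheory CategoryTheory.Limits AlgebraicGeometry Opposite TopologicalSpace W4c5etcohweilstudent CategoryTheory.Abelian

namespace Groth.Agent.FrobNilp

/-- A split cover with nonempty total space has a section. -/
theorem exists_section {X : Scheme.{u}} {Y : FEt.Cat X} (hY : Pi1.IsSplit Y) (hne : Nonempty Y.left) :
    ∃ s : X ⟶ Y.left, s ≫ Y.hom = 𝟙 X := by
  obtain ⟨ι, _, e, he⟩ := hY
  obtain ⟨y⟩ := hne
  obtain ⟨i, z, -⟩ := (sigmaOpenCover (fun _ : ι => X)).exists_eq (e.hom y)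
  exact ⟨Sigma.ι (fun _ : ι => X) i ≫ e.inv, (Category.assoc _ _ _).trans (he i)⟩

/-- Without nontrivial covers there is no first cohomology with coefficients killed by `n`. -/
theorem subsingleton_H_one {X : Scheme.{u}} [Nonempty X] (hπ : ∀ Y : FEt.Cat X, Pi1.IsSplit Y) {n : ℕ} (hn : 0 < n)
    (F : EtCoh.Ab X) (hF : EtCoh.IsFiniteLocallyConstant F) (hnF : EtCoh.KilledBy n F) :
    Subsingleton (EtCoh.H X F 1) := by
  refine subsingleton_of_forall_eq 0 fun ζ => ?_
  obtain ⟨E, hE, rfl, G, p, k', h, π, T, hk, hTf, hTs, hp, hζ⟩ := EtTorLib.exists_kill F hF hn hnF ζ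
  haveI : AlgebraicGeometry.Etale T.hom := T.prop
  haveI := hTf
  haveI := hTs
  let Y : FEt.Cat X := MorphismProperty.Over.mk ⊤ T.hom ⟨hTf, T.prop⟩
  obtain ⟨t, -⟩ := T.hom.surjective (Classical.arbitrary X)
  obtain ⟨s, hs⟩ := exists_section (hπ Y) ⟨t⟩
  let σ : EtCoh.top X ⟶ T := MorphismProperty.Over.homMk s hs
  let τ : T ⟶ EtCoh.top X := MorphismProperty.Over.homMk T.hom (Category.comp_id _)
  have hid : σ ≫ τ = 𝟙 (EtCoh.top X) := MorphismProperty.Over.Hom.ext hs
  have htop : Function.Surjective (p.hom.app (op (EtCoh.top X))) := fun b => by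
    obtain ⟨a, ha⟩ := hp ((EtCoh.const X (ZMod n)).obj.map τ.op b)
    refine ⟨G.obj.map σ.op a, (NatTrans.naturality_apply p.hom σ.op a).trans ((congrArg _ ha).trans ?_)⟩
    rw [← ConcreteCategory.comp_apply, ← Functor.map_comp, ← op_comp, hid]
    exact ConcreteCategory.congr_hom ((EtCoh.const X (ZMod n)).obj.map_id _) b
  obtain ⟨L, hL⟩ := EtTorLib.exists_lift_const p π htop
  have hζ' : ζ = (Ext.mk₀ (π ≫ h)).comp hE.extClass (zero_add 1) := hζ
  rw [hζ', show π ≫ h = (L ≫ k') ≫ E.g by rw [Category.assoc, hk, ← Category.assoc, hL], ← Ext.mk₀_comp_mk₀,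
    Ext.comp_assoc_of_second_deg_zero, hE.comp_extClass, Ext.comp_zero]

section Frobenius

variable (p : ℕ) [Fact p.Prime] {X : Scheme.{u}} [FrobSch.IsCharP X p]

theorem frobAb_eq (hp : p.Prime) (h0 : (p : Γ(X, ⊤)) = 0) :
    W4c5isocrystsimpconn.frobAb X p = CharPTop.asZar p hp h0 + 𝟙 (Coh.toAb (Coh.structureModule X)) := by
  refine Sheaf.hom_ext (NatTrans.ext (funext fun U => AddCommGrpCat.hom_ext (AddMonoidHom.ext fun s => ?_)))
  show (show Γ(X, U.unop) from s) ^ p = ((show Γ(X, U.unop) from s) ^ p - (show Γ(X, U.unop) from s)) + (show Γ(X, U.unop) from s)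
  exact (sub_add_cancel _ _).symm

theorem frobH_eq (hp : p.Prime) (h0 : (p : Γ(X, ⊤)) = 0) (n : ℕ) (v : Coh.HH X (Coh.structureModule X) n) :
    W4c5isocrystsimpconn.frobH X p n v = Sheaf.H.map (CharPTop.asZar p hp h0) n v + v := by
  unfold W4c5isocrystsimpconn.frobH
  rw [frobAb_eq p hp h0, Sheaf.H.map_add_apply, Sheaf.H.map_id_apply]

/-- Nilpotence on the first cohomology. -/
theorem exists_nilpotent (k : Type u) [Field k] [IsAlgClosed k] [CharP k p] [X.Over (Spec (CommRingCat.of k))]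
    [IsProper (X ↘ Spec (CommRingCat.of k))] [Nonempty X] (hπ : ∀ Y : FEt.Cat X, Pi1.IsSplit Y) :
    ∃ b : ℕ, 0 < b ∧ ∀ x : Coh.HH X (Coh.structureModule X) 1, (W4c5isocrystsimpconn.frobH X p 1)^[b] x = 0 := by
  have hp : p.Prime := Fact.out
  have h0 := CharPTop.natCast_eq_zero_top p k (X ↘ Spec (CommRingCat.of k))
  haveI : IsLocallyNoetherian X := LocallyOfFiniteType.isLocallyNoetherian (X ↘ Spec (CommRingCat.of k))
  haveI := CurveCohLib.finite_HH (k := k) (X := X) (CharPTop.isCoh_structureModule X) 1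
  haveI : NeZero p := ⟨hp.ne_zero⟩
  have hsub : Subsingleton (EtCoh.H X (EtCoh.const X (ZMod p)) 1) :=
    subsingleton_H_one hπ hp.pos _ (EtTorLib.isFiniteLocallyConstant_const (ZMod p)) (by
      have := EtTorLib.killedBy_const (Y := X) (ZMod p)
      rwa [Nat.card_zmod] at this)
  obtain ⟨e, he⟩ := CharPTop.exists_addEquiv_natural (X := X) p hp h0 1
  let F := W4c5isocrystsimpconn.frobH X p 1
  have hF : ∀ (c : k) (v : Coh.HH X (Coh.structureModule X) 1), F (c • v) = c ^ p • F v := fun c v => by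
    rw [show F (c • v) = _ from frobH_eq p hp h0 1 _, show F v = _ from frobH_eq p hp h0 1 _]
    show Sheaf.H.map (CharPTop.asZar p hp h0) 1 (Coh.toGlobal (X ↘ Spec (CommRingCat.of k)) c • v) +
        Coh.toGlobal (X ↘ Spec (CommRingCat.of k)) c • v =
      Coh.toGlobal (X ↘ Spec (CommRingCat.of k)) (c ^ p) • (Sheaf.H.map (CharPTop.asZar p hp h0) 1 v + v)
    rw [map_pow]
    exact CharPTop.H_map_frob p hp h0 _ 1 v
  haveI hepi : Epi (artinSchreierEndo X p hp h0) := Groth.Agent.S18415.result p hp h0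
  let S : ShortComplex (EtCoh.Ab X) := ShortComplex.mk (kernel.ι (artinSchreierEndo X p hp h0)) _ (kernel.condition _)
  have hS : S.ShortExact :=
    { exact := ShortComplex.exact_of_f_is_kernel _ (kernelIsKernel _)
      mono_f := equalizer.ι_mono
      epi_g := hepi }
  haveI := EtLC12.ArtinSchreier.isIso_constToKer (X := X) p h0
  haveI : Subsingleton (EtCoh.H X S.X₁ 1) :=
    @Equiv.subsingleton _ _ ((Sheaf.functorH _ 1).mapIso
      (asIso (EtLC12.ArtinSchreier.constToKer (X := X) p h0))).addCommGroupIsoToAddEquiv.toEquiv.symm hsub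
  have hfix : ∀ v, F v = v → v = 0 := fun v hv => by
    rw [show F v = _ from frobH_eq p hp h0 1 _, add_eq_right] at hv
    have hz : Sheaf.H.map (artinSchreierEndo X p hp h0) 1 (e.symm v) = 0 :=
      e.injective (by rw [he, e.apply_symm_apply, hv, map_zero])
    obtain ⟨w, hw⟩ := Ext.covariant_sequence_exact₂ _ hS (e.symm v) hz
    rw [Subsingleton.elim w 0, Ext.zero_comp] at hw
    rw [← e.apply_symm_apply v, ← hw, map_zero]
  refine ⟨Module.finrank k (Coh.HH X (Coh.structureModule X) 1) + 1, Nat.succ_pos _, fun x => ?_⟩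
  exact exists_iterate_eq_zero (k := k) p _ (Nat.le_succ _) F hF hfix x

end Frobenius

end Groth.Agent.FrobNilp
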