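import Mathlib.FieldTheory.IsAlgClosed.Basic
import Mathlib.Algebra.CharP.Basic
import Mathlib.LinearAlgebra.FiniteDimensional.Basic
import Mathlib.LinearAlgebra.Dimension.OrzechProperty
import Mathlib.LinearAlgebra.FiniteDimensional.Lemmas

/-!
# Frobenius-semilinear endomorphisms without fixed vectors are nilpotent
-/

set_option autoImplicit false

open Polynomial

namespace Groth.Agent.FrobNilp

variable {k : Type*} [Field k] [IsAlgClosed k] (p : ℕ) [Fact p.Prime] [CharP k p]

/-- A surjective semilinear endomorphism of a nonzero space fixes a nonzero vector. -/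
theorem exists_fixed {V : Type*} [AddCommGroup V] [Module k V] [FiniteDimensional k V] (F : V →+ V)
    (hF : ∀ (c : k) (v : V), F (c • v) = c ^ p • F v) (hinj : Function.Injective F)
    {w : V} (hw : w ≠ 0) : ∃ x : V, x ≠ 0 ∧ F x = x := by
  classical
  have hp : p.Prime := Fact.out
  let e : ℕ → V := fun i => F^[i] w
  have hex : ∃ m, e m ∈ Submodule.span k (e '' Set.Iio m) := by
    obtain ⟨n, hn⟩ := monotone_stabilizes_iff_noetherian.2 (inferInstance : IsNoetherian k V)
      ⟨fun n => Submodule.span k (e '' Set.Iio n),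
        fun a b hab => Submodule.span_mono (Set.image_mono (Set.Iio_subset_Iio hab))⟩
    exact ⟨n, (hn (n + 1) n.le_succ).ge (Submodule.subset_span ⟨n, Nat.lt_succ_self n, rfl⟩)⟩
  have hmem := Nat.find_spec hex
  have hmin : ∀ m < Nat.find hex, e m ∉ Submodule.span k (e '' Set.Iio m) := fun m hm => Nat.find_min hex hm
  obtain ⟨n, hn⟩ : ∃ n, Nat.find hex = n + 1 := by
    refine Nat.exists_eq_succ_of_ne_zero fun h0 => hw ?_
    rw [h0] at hmem
    have h1 : Set.Iio (0 : ℕ) = ∅ := Set.eq_empty_iff_forall_notMem.2 fun i hi => Nat.not_lt_zero i hi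
    rw [h1, Set.image_empty, Submodule.span_empty, Submodule.mem_bot] at hmem
    exact hmem
  rw [hn] at hmem hmin
  rw [← Finset.coe_range, Submodule.mem_span_image_finset_iff_exists_fun'] at hmem
  obtain ⟨a, ha⟩ := hmem
  -- the constant coefficient is nonzero
  have ha0 : a 0 ≠ 0 := by
    intro h0
    choose c hc using fun i => IsAlgClosed.exists_pow_nat_eq (a i) hp.pos
    refine hmin n (Nat.lt_succ_self n) ?_
    have h1 : e n = ∑ i ∈ Finset.range n, c (i + 1) • e i := by
      refine hinj ?_
      rw [map_sum, show F (e n) = e (n + 1) from (Function.iterate_succ_apply' F n w).symm, ← ha,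
        Finset.sum_range_succ', h0, zero_smul, add_zero]
      exact Finset.sum_congr rfl fun i _ => by
        rw [hF, hc, show e (i + 1) = F (e i) from Function.iterate_succ_apply' F i w]
    rw [h1]
    exact Submodule.sum_mem _ fun i hi =>
      Submodule.smul_mem _ _ (Submodule.subset_span ⟨i, Finset.mem_range.1 hi, rfl⟩)
  let Q : ℕ → k[X] := fun i => Nat.rec (C (a 0) * X ^ p) (fun j q => q ^ p + C (a (j + 1)) * X ^ p) i
  have hQ' : ∀ i, derivative (Q i) = 0 := by
    intro i
    cases i with
    | zero => simp [Q, derivative_X_pow, CharP.cast_eq_zero k p]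
    | succ j => simp [Q, derivative_pow, derivative_X_pow, CharP.cast_eq_zero k p]
  have hQd : ∀ i, (Q i).natDegree = p ^ (i + 1) := by
    intro i
    induction i with
    | zero => simp [Q, natDegree_C_mul_X_pow, ha0]
    | succ j ih =>
      show (Q j ^ p + C (a (j + 1)) * X ^ p).natDegree = _
      have h1 : (Q j ^ p).natDegree = p ^ (j + 1 + 1) := by rw [natDegree_pow, ih, pow_succ' p (j + 1)]
      rw [natDegree_add_eq_left_of_natDegree_lt, h1]
      rw [h1]
      refine lt_of_le_of_lt (natDegree_C_mul_X_pow_le _ _) ?_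
      calc p = p ^ 1 := (pow_one p).symm
        _ < p ^ (j + 1 + 1) := Nat.pow_lt_pow_right hp.one_lt (by omega)
  have hQ0 : ∀ i, (Q i).eval 0 = 0 := by
    intro i
    induction i with
    | zero => simp [Q, hp.ne_zero]
    | succ j ih =>
      show (Q j ^ p + C (a (j + 1)) * X ^ p).eval 0 = 0
      simp [ih, hp.ne_zero]
  let P := Q n - X
  have hP0 : P.IsRoot 0 := by simp [P, hQ0]
  obtain ⟨R, hR⟩ : X ∣ P := by
    rw [X_dvd_iff, coeff_zero_eq_eval_zero]
    exact hP0
  have hPd : P.natDegree = p ^ (n + 1) := by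
    show (Q n - X).natDegree = _
    rw [natDegree_sub_eq_left_of_natDegree_lt, hQd]
    rw [hQd, natDegree_X]
    exact Nat.one_lt_pow (by omega) hp.one_lt
  obtain ⟨t, ht⟩ : ∃ t, R.IsRoot t := by
    refine IsAlgClosed.exists_root _ fun h => ?_
    rw [hR, eq_C_of_degree_eq_zero h, mul_comm] at hPd
    have := hPd ▸ (natDegree_C_mul_le (R.coeff 0) (X : k[X])).trans natDegree_X.le
    exact absurd this (Nat.not_le.2 (Nat.one_lt_pow (by omega) hp.one_lt))
  have ht0 : t ≠ 0 := by
    rintro rfl
    have h1 : (derivative P).eval 0 = R.eval 0 := by rw [hR, derivative_mul]; simp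
    rw [show derivative P = -1 by simp [P, hQ'], ht] at h1
    simp at h1
  have hPt : (Q n).eval t = t := by
    have h1 : P.eval t = 0 := by rw [hR, eval_mul, ht, mul_zero]
    simpa [P, sub_eq_zero] using h1
  let x : ℕ → k := fun i => (Q i).eval t
  refine ⟨∑ i ∈ Finset.range (n + 1), x i • e i, fun h0 => ?_, ?_⟩
  · refine hmin n (Nat.lt_succ_self n) ?_
    rw [Finset.sum_range_succ, show x n = t from hPt, add_eq_zero_iff_eq_neg'] at h0
    rw [← inv_smul_smul₀ ht0 (e n), h0]
    exact Submodule.smul_mem _ _ (Submodule.neg_mem _ (Submodule.sum_mem _ fun i hi =>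
      Submodule.smul_mem _ _ (Submodule.subset_span ⟨i, Finset.mem_range.1 hi, rfl⟩)))
  · have h1 : F (∑ i ∈ Finset.range (n + 1), x i • e i) =
        ∑ i ∈ Finset.range (n + 1), x i ^ p • e (i + 1) := by
      rw [map_sum]
      exact Finset.sum_congr rfl fun i _ => by rw [hF, show e (i + 1) = F (e i) from Function.iterate_succ_apply' F i w]
    rw [h1, Finset.sum_range_succ, show x n ^ p = t ^ p by rw [show x n = t from hPt], ← ha, Finset.smul_sum,
      Finset.sum_range_succ' (fun i => x i • e i), Finset.sum_range_succ' (fun i => t ^ p • a i • e i)]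
    have hx : ∀ i, x (i + 1) = x i ^ p + a (i + 1) * t ^ p := fun i => by simp [x, Q]
    have h0 : x 0 = a 0 * t ^ p := by simp [x, Q]
    simp only [hx, h0, smul_smul, add_smul, Finset.sum_add_distrib, mul_comm (t ^ p)]
    abel

/-- Without nonzero fixed vectors a semilinear endomorphism is nilpotent. -/
theorem exists_iterate_eq_zero : ∀ (d : ℕ) {V : Type*} [AddCommGroup V] [Module k V] [FiniteDimensional k V],
    Module.finrank k V ≤ d → ∀ (F : V →+ V), (∀ (c : k) (v : V), F (c • v) = c ^ p • F v) →
    (∀ v, F v = v → v = 0) → ∀ v : V, F^[d] v = 0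
  | 0, V, _, _, _, hd, F, _, _, v => by
    haveI : Subsingleton V := Module.finrank_zero_iff.1 (Nat.le_zero.1 hd)
    exact Subsingleton.elim _ _
  | d + 1, V, _, _, _, hd, F, hF, hfix, v => by
    let W : Submodule k V :=
      { carrier := Set.range F
        add_mem' := by rintro _ _ ⟨a, rfl⟩ ⟨b, rfl⟩; exact ⟨a + b, map_add F a b⟩
        zero_mem' := ⟨0, map_zero F⟩
        smul_mem' := by
          rintro c _ ⟨a, rfl⟩
          obtain ⟨r, hr⟩ := IsAlgClosed.exists_pow_nat_eq c (Fact.out : p.Prime).pos
          exact ⟨r • a, by rw [hF, hr]⟩ }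
    rw [Function.iterate_succ_apply]
    by_cases hW : W = ⊤
    · by_cases hv : v = 0
      · rw [hv, map_zero, iterate_map_zero]
      exfalso
      have hs : Function.Surjective F := fun y => (hW.ge (Submodule.mem_top (x := y)) : y ∈ W)
      have hinj : Function.Injective F := by
        rw [injective_iff_map_eq_zero]
        intro u hu
        let b := Module.finBasis k V
        have hexp : ∀ z : V, F z = ∑ i, b.repr z i ^ p • F (b i) := fun z => by
          conv_lhs => rw [← b.sum_repr z, map_sum]
          exact Finset.sum_congr rfl fun i _ => hF _ _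
        have hsp : (⊤ : Submodule k V) ≤ Submodule.span k (Set.range fun i => F (b i)) := fun z _ => by
          obtain ⟨z', rfl⟩ := hs z
          rw [hexp]
          exact Submodule.sum_mem _ fun i _ => Submodule.smul_mem _ _ (Submodule.subset_span ⟨i, rfl⟩)
        have hli := linearIndependent_of_top_le_span_of_card_eq_finrank hsp (Fintype.card_fin _)
        have h0 := Fintype.linearIndependent_iff.1 hli (fun i => b.repr u i ^ p) ((hexp u).symm.trans hu)
        refine b.ext_elem fun i => ?_
        rw [map_zero]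
        exact eq_zero_of_pow_eq_zero (h0 i)
      obtain ⟨x, hx, hx'⟩ := exists_fixed p F hF hinj hv
      exact hx (hfix x hx')
    · let G : W →+ W := AddMonoidHom.mk' (fun y : W => (⟨F (y : V), ⟨(y : V), rfl⟩⟩ : W)) fun a b => Subtype.ext (map_add F (a : V) (b : V))
      have hG := exists_iterate_eq_zero d (V := W) (by
          have := Submodule.finrank_lt (K := k) hW
          omega) G (fun c y => Subtype.ext (hF c (y : V))) (fun y hy => Subtype.ext (hfix _ (congrArg Subtype.val hy)))
        ⟨F v, ⟨v, rfl⟩⟩
      have hs : Function.Semiconj (Subtype.val : W → V) G F := fun _ => rfl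
      exact (hs.iterate_right d ⟨F v, ⟨v, rfl⟩⟩).symm.trans (congrArg Subtype.val hG)

end Groth.Agent.FrobNilp
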